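import Groth.Agent.Lib.Flatness.Criterion
import Groth.Agent.Lib.Flatness.InjMod
import Groth.Prelude.Def_W4c6puncthilbintroLift

/-!
# Flatness over dual numbers
-/

universe u

namespace GrothLib.EmbDef

open TensorProduct TrivSqZeroExt

/-- Flatness descends along a surjective ring map. -/
lemma flat_of_surjective {A B : Type u} [CommRing A] [CommRing B] [Algebra A B]
    (hs : Function.Surjective (algebraMap A B)) (N : Type u) [AddCommGroup N] [Module A N]
    [Module B N] [IsScalarTower A B N] [Module.Flat A N] : Module.Flat B N := by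
  let f : B ⊗[A] N →ₗ[B] N := LinearMap.liftBaseChange B (LinearMap.id : N →ₗ[A] N)
  have hf : ∀ b n, f (b ⊗ₜ n) = b • n := fun b n => by simp [f]
  have hinv : ∀ x : B ⊗[A] N, (1 : B) ⊗ₜ[A] (f x) = x := fun x => by
    induction x using TensorProduct.induction_on with
    | zero => simp
    | add x y hx hy => rw [map_add, tmul_add, hx, hy]
    | tmul b n =>
      obtain ⟨a, rfl⟩ := hs b
      rw [hf, algebraMap_smul, tmul_smul, smul_tmul', Algebra.smul_def, mul_one]
  exact Module.Flat.of_linearEquiv (LinearEquiv.ofBijective f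
    ⟨fun x y h => by rw [← hinv x, ← hinv y, h], fun n => ⟨1 ⊗ₜ n, by rw [hf, one_smul]⟩⟩).symm

variable {A : Type u} [CommRing A]

local notation "ε₀" => (DualNumber.eps : DualNumber A)

/-- The ideal `(ε)`. -/
abbrev epsIdeal (A : Type u) [CommRing A] : Ideal (DualNumber A) := RingHom.ker (TrivSqZeroExt.fstHom A A A)

lemma eq_mul_eps {i : DualNumber A} (hi : i ∈ epsIdeal A) : i = inl i.snd * ε₀ := by
  have h : i.fst = 0 := hi
  refine TrivSqZeroExt.ext ?_ ?_ <;> simp [h]

lemma eps_mem : ε₀ ∈ epsIdeal A := show (ε₀).fst = 0 from DualNumber.fst_eps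

variable {R : Type u} [CommRing R] [Algebra A R]

attribute [local instance] W4c6puncthilbintro.dualAlgebra

instance isScalarTower_dual : IsScalarTower A (DualNumber A) (DualNumber R) :=
  IsScalarTower.of_algebraMap_eq fun a => ((W4c6puncthilbintro.dualMap A R).commutes a).symm

lemma algebraMap_eps : algebraMap (DualNumber A) (DualNumber R) ε₀ = DualNumber.eps :=
  W4c6puncthilbintro.dualMap_eps A R

variable (J : Ideal (DualNumber R))

lemma eps_smul_mk (z : DualNumber R) :
    ε₀ • Ideal.Quotient.mk J z = Ideal.Quotient.mk J DualNumber.eps * Ideal.Quotient.mk J z := by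
  rw [← map_mul, ← algebraMap_eps (A := A) (R := R), ← Algebra.smul_def]
  rfl

lemma mem_eps_smul_top_iff {x : DualNumber R ⧸ J} :
    x ∈ epsIdeal A • (⊤ : Submodule (DualNumber A) (DualNumber R ⧸ J)) ↔
      ∃ y, x = Ideal.Quotient.mk J DualNumber.eps * y := by
  constructor
  · intro hx
    refine Submodule.smul_induction_on hx (fun i hi y _ => ?_) ?_
    · rw [eq_mul_eps hi, mul_comm, mul_smul]
      obtain ⟨z, hz⟩ := Ideal.Quotient.mk_surjective ((inl i.snd : DualNumber A) • y)
      exact ⟨Ideal.Quotient.mk J z, by rw [← hz, eps_smul_mk]⟩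
    · rintro a b ⟨y, rfl⟩ ⟨y', rfl⟩
      exact ⟨y + y', (mul_add _ _ _).symm⟩
  · rintro ⟨y, rfl⟩
    obtain ⟨z, rfl⟩ := Ideal.Quotient.mk_surjective y
    rw [← eps_smul_mk (A := A)]
    exact Submodule.smul_mem_smul eps_mem trivial

/-- Over the dual numbers flat quotients have no exotic `ε`-torsion. -/
lemma exists_eq_eps_mul_of_flat [Module.Flat (DualNumber A) (DualNumber R ⧸ J)] (x : DualNumber R ⧸ J)
    (hx : Ideal.Quotient.mk J DualNumber.eps * x = 0) :
    ∃ y, x = Ideal.Quotient.mk J DualNumber.eps * y := by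
  obtain ⟨z, rfl⟩ := Ideal.Quotient.mk_surjective x
  rw [← eps_smul_mk (A := A)] at hx
  set m := Ideal.Quotient.mk J z
  let e₀ : epsIdeal A := ⟨ε₀, eps_mem⟩
  have h0 : m ⊗ₜ[DualNumber A] e₀ = (0 : (DualNumber R ⧸ J) ⊗[DualNumber A] ↥(epsIdeal A)) := by
    refine Module.Flat.lTensor_preserves_injective_linearMap _ (Submodule.injective_subtype _)
      ((TensorProduct.rid (DualNumber A) (DualNumber R ⧸ J)).injective ?_)
    rw [LinearMap.lTensor_tmul, TensorProduct.rid_tmul, map_zero, map_zero]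
    exact hx
  let ψ : ↥(epsIdeal A) →ₗ[DualNumber A] DualNumber A ⧸ epsIdeal A :=
    { toFun := fun i => Ideal.Quotient.mk _ (inl (i : DualNumber A).snd)
      map_add' := fun i j => by rw [Submodule.coe_add, snd_add, inl_add, map_add]
      map_smul' := fun a i => by
        have hi : (i : DualNumber A).fst = 0 := i.2
        change Ideal.Quotient.mk _ (inl (a * (i : DualNumber A)).snd) =
          Ideal.Quotient.mk (epsIdeal A) (a * inl (i : DualNumber A).snd)
        rw [Ideal.Quotient.eq]
        change (inl ((a * (i : DualNumber A)).snd) - a * inl (i : DualNumber A).snd : DualNumber A).fst = 0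
        simp [hi] }
  have h1 := congrArg (LinearMap.lTensor (DualNumber R ⧸ J) ψ) h0
  rw [LinearMap.lTensor_tmul, map_zero] at h1
  have hψ : ψ e₀ = 1 := by
    change Ideal.Quotient.mk _ (inl (ε₀).snd) = 1
    rw [DualNumber.snd_eps, inl_one, map_one]
  rw [hψ] at h1
  have h2 : (1 : DualNumber A ⧸ epsIdeal A) ⊗ₜ[DualNumber A] m = 0 :=
    (congrArg (TensorProduct.comm _ _ _) h1).trans (map_zero _)
  rw [Flatness.one_tmul_eq_zero_iff] at h2
  exact (mem_eps_smul_top_iff J).1 h2

/-- A quotient of `R[ε]` with no exotic torsion and flat fibre is flat over `A[ε]`. -/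
lemma flat_dual_of (I : Ideal R) [Module.Flat A (R ⧸ I)]
    (hJ : J.map (TrivSqZeroExt.fstHom A R R) = I)
    (ht : ∀ x : DualNumber R ⧸ J, Ideal.Quotient.mk J DualNumber.eps * x = 0 →
      ∃ y, x = Ideal.Quotient.mk J DualNumber.eps * y) :
    Module.Flat (DualNumber A) (DualNumber R ⧸ J) := by
  refine Flatness.flat_of_isNilpotent (epsIdeal A) ⟨2, ?_⟩ ?_ ?_
  · rw [pow_two, Ideal.zero_eq_bot, ← le_bot_iff, Ideal.mul_le]
    intro a ha b hb
    rw [Ideal.mem_bot, eq_mul_eps ha, eq_mul_eps hb, mul_mul_mul_comm, DualNumber.eps_mul_eps, mul_zero]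
  · let e₀ : epsIdeal A := ⟨ε₀, eps_mem⟩
    have hsm : ∀ (r : DualNumber A) (x : DualNumber R ⧸ J) (j : epsIdeal A),
        (r • x) ⊗ₜ[DualNumber A] j = x ⊗ₜ (r • j) :=
      fun r x j => TensorProduct.smul_tmul (R := DualNumber A) (R' := DualNumber A) r x j
    have hgen : ∀ t : (DualNumber R ⧸ J) ⊗[DualNumber A] ↥(epsIdeal A), ∃ m, t = m ⊗ₜ e₀ := by
      intro t
      induction t using TensorProduct.induction_on with
      | zero => exact ⟨0, (zero_tmul _ _).symm⟩
      | add x y hx hy =>
        obtain ⟨a, rfl⟩ := hx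
        obtain ⟨b, rfl⟩ := hy
        exact ⟨a + b, (add_tmul _ _ _).symm⟩
      | tmul m i =>
        refine ⟨(inl (i : DualNumber A).snd : DualNumber A) • m, ?_⟩
        rw [hsm]
        exact congrArg (m ⊗ₜ ·) (Subtype.ext (eq_mul_eps i.2))
    rw [injective_iff_map_eq_zero]
    intro t hT
    obtain ⟨m, rfl⟩ := hgen t
    have h := congrArg (TensorProduct.rid (DualNumber A) (DualNumber R ⧸ J)) hT
    rw [LinearMap.lTensor_tmul, TensorProduct.rid_tmul, map_zero] at h
    obtain ⟨z, rfl⟩ := Ideal.Quotient.mk_surjective m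
    obtain ⟨y, hy⟩ := ht _ ((eps_smul_mk (A := A) J z).symm.trans h)
    obtain ⟨w, rfl⟩ := Ideal.Quotient.mk_surjective y
    rw [hy, ← eps_smul_mk (A := A)]
    rw [hsm, show ε₀ • e₀ = 0 from Subtype.ext DualNumber.eps_mul_eps, tmul_zero]
  · let g : (DualNumber R ⧸ J) →ₐ[A] R ⧸ I :=
      Ideal.Quotient.liftₐ J ((Ideal.Quotient.mkₐ A I).comp (TrivSqZeroExt.fstHom A R R)) fun z hz =>
        Ideal.Quotient.eq_zero_iff_mem.2 (hJ ▸ Ideal.mem_map_of_mem _ hz)
    have hg : Function.Surjective g.toLinearMap := fun r => by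
      obtain ⟨a, rfl⟩ := Ideal.Quotient.mk_surjective r
      exact ⟨Ideal.Quotient.mk J (inl a), rfl⟩
    have hker : (epsIdeal A • (⊤ : Submodule (DualNumber A) (DualNumber R ⧸ J))).restrictScalars A =
        LinearMap.ker g.toLinearMap := by
      ext x
      rw [Submodule.restrictScalars_mem, mem_eps_smul_top_iff, LinearMap.mem_ker]
      obtain ⟨z, rfl⟩ := Ideal.Quotient.mk_surjective x
      constructor
      · rintro ⟨y, hy⟩
        obtain ⟨w, rfl⟩ := Ideal.Quotient.mk_surjective y
        rw [hy]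
        refine Ideal.Quotient.eq_zero_iff_mem.2 ?_
        change (DualNumber.eps * w).fst ∈ I
        simp
      · intro h
        have h' : z.fst ∈ I := Ideal.Quotient.eq_zero_iff_mem.1 h
        rw [← hJ, Ideal.mem_map_iff_of_surjective _ (fun p => ⟨inl p, fst_inl R p⟩)] at h'
        obtain ⟨w, hw, hwz⟩ := h'
        refine ⟨Ideal.Quotient.mk J (inl (z.snd - w.snd)), ?_⟩
        rw [← map_mul, Ideal.Quotient.eq]
        have e : z - DualNumber.eps * inl (z.snd - w.snd) = w := by
          refine TrivSqZeroExt.ext ?_ ?_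
          · simpa using hwz.symm
          · simp
        rw [e]
        exact hw
    let e : ((DualNumber A ⧸ epsIdeal A) ⊗[DualNumber A] (DualNumber R ⧸ J)) ≃ₗ[A] R ⧸ I :=
      ((TensorProduct.quotTensorEquivQuotSMul (DualNumber R ⧸ J) (epsIdeal A)).restrictScalars A).trans
        (((Submodule.Quotient.restrictScalarsEquiv A _).symm.trans (Submodule.quotEquivOfEq _ _ hker)).trans
          (g.toLinearMap.quotKerEquivOfSurjective hg))
    haveI : Module.Flat A ((DualNumber A ⧸ epsIdeal A) ⊗[DualNumber A] (DualNumber R ⧸ J)) :=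
      Module.Flat.of_linearEquiv e
    exact flat_of_surjective (A := A) (B := DualNumber A ⧸ epsIdeal A) (fun b => by
      obtain ⟨a, rfl⟩ := Ideal.Quotient.mk_surjective b
      refine ⟨a.fst, Ideal.Quotient.eq.2 ?_⟩
      change (algebraMap A (DualNumber A) a.fst - a).fst = 0
      simp [TrivSqZeroExt.algebraMap_eq_inl]) _

end GrothLib.EmbDef
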