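import Mathlib.RingTheory.Flat.Basic
import Mathlib.RingTheory.Ideal.Quotient.Operations
import Mathlib.RingTheory.TensorProduct.Basic
import Mathlib.LinearAlgebra.TensorProduct.Tower

/-!
# Differences of embedded deformations
-/

universe u

open scoped TensorProduct

namespace GrothLib.EmbDef

variable {C A : Type u} [CommRing C] [CommRing A] [Algebra C A] (J : Ideal C)

/-- Multiplication `A ⊗ J → A`. -/
noncomputable abbrev mulJ (M : Type u) [AddCommGroup M] [Module C M] : M ⊗[C] J →ₗ[C] M :=
  (TensorProduct.rid C M).toLinearMap ∘ₗ LinearMap.lTensor M (Submodule.subtype J)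

theorem exists_mulJ_eq {a : A} (ha : a ∈ J.map (algebraMap C A)) : ∃ z, mulJ J A z = a := by
  induction ha using Submodule.span_induction with
  | mem a ha =>
    obtain ⟨j, hj, rfl⟩ := ha
    exact ⟨1 ⊗ₜ ⟨j, hj⟩, by simp [Algebra.smul_def]⟩
  | zero => exact ⟨0, map_zero _⟩
  | add a b _ _ ha hb =>
    obtain ⟨z, rfl⟩ := ha
    obtain ⟨w, rfl⟩ := hb
    exact ⟨z + w, map_add _ _ _⟩
  | smul r a ha' ha =>
    obtain ⟨z, rfl⟩ := ha
    refine ⟨LinearMap.rTensor J (LinearMap.mulLeft C r) z, ?_⟩
    clear ha'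
    induction z using TensorProduct.induction_on with
    | zero => simp
    | add x y hx hy => rw [map_add, map_add, map_add, hx, hy, smul_add]
    | tmul b j => simp

theorem rTensor_eq_zero_of_mulJ_mem (I' : Ideal A) [Module.Flat C (A ⧸ I')] {B : Type u} [AddCommGroup B] [Module C B]
    (π : A →ₗ[C] B) (hπ : ∀ a ∈ I', π a = 0) (z : A ⊗[C] J) (hz : mulJ J A z ∈ I') :
    LinearMap.rTensor J π z = 0 := by
  let q : A →ₗ[C] A ⧸ I' := I'.mkQ.restrictScalars C
  have hq : ∀ z, mulJ J (A ⧸ I') (LinearMap.rTensor J q z) = q (mulJ J A z) := fun z => by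
    induction z using TensorProduct.induction_on with
    | zero => simp
    | add x y hx hy => rw [map_add, map_add, map_add, map_add, hx, hy]
    | tmul b j => simp
  have h0 : LinearMap.rTensor J q z = 0 := by
    refine ((TensorProduct.rid C (A ⧸ I')).injective.comp
      (Module.Flat.lTensor_preserves_injective_linearMap (Submodule.subtype J) J.injective_subtype)) ?_
    change mulJ J (A ⧸ I') (LinearMap.rTensor J q z) = mulJ J (A ⧸ I') 0
    rw [hq, map_zero]
    exact (Submodule.Quotient.mk_eq_zero _).2 hz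
  let π' : (A ⧸ I') →ₗ[C] B := (Submodule.liftQ (I'.restrictScalars C) π fun a ha => hπ a ha) ∘ₗ
    ((Submodule.Quotient.restrictScalarsEquiv C I').symm.toLinearMap)
  have hπ' : π' ∘ₗ q = π := LinearMap.ext fun a => rfl
  rw [← hπ', LinearMap.rTensor_comp_apply, h0, map_zero]

variable (I : Ideal (A ⧸ J.map (algebraMap C A)))

/-- The difference homomorphism of two deformations of an ideal. -/
theorem existsUnique_difference (I' I'' : Ideal A) [Module.Flat C (A ⧸ I')] [Module.Flat C (A ⧸ I'')]
    (hI' : I'.map (Ideal.Quotient.mk (J.map (algebraMap C A))) = I)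
    (hI'' : I''.map (Ideal.Quotient.mk (J.map (algebraMap C A))) = I) :
    ∃! φ : ↥I →ₗ[A] (((A ⧸ J.map (algebraMap C A)) ⧸ I) ⊗[C] ↥J),
      (∀ (x : (A ⧸ J.map (algebraMap C A))) (hx : x ∈ I) (x' x'' : A), x' ∈ I' → x'' ∈ I'' →
          Ideal.Quotient.mk (J.map (algebraMap C A)) x' = x → Ideal.Quotient.mk (J.map (algebraMap C A)) x'' = x →
          ∀ z : A ⊗[C] ↥J, TensorProduct.rid C A (LinearMap.lTensor A (Submodule.subtype J) z) = x'' - x' →
            LinearMap.rTensor ↥J (IsScalarTower.toAlgHom C A ((A ⧸ J.map (algebraMap C A)) ⧸ I)).toLinearMap z = φ ⟨x, hx⟩) := by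
  let JA := J.map (algebraMap C A)
  let π : A →ₗ[C] ((A ⧸ JA) ⧸ I) := (IsScalarTower.toAlgHom C A ((A ⧸ JA) ⧸ I)).toLinearMap
  let T := LinearMap.rTensor J π
  have hπ : ∀ (K : Ideal A), K.map (Ideal.Quotient.mk JA) = I → ∀ a ∈ K, π a = 0 := fun K hK a ha =>
    Ideal.Quotient.eq_zero_iff_mem.2 (hK.le (Ideal.mem_map_of_mem _ ha))
  have hlift : ∀ (K : Ideal A), K.map (Ideal.Quotient.mk JA) = I → ∀ x : I, ∃ a ∈ K, Ideal.Quotient.mk JA a = x :=
    fun K hK x => (Ideal.mem_map_iff_of_surjective _ Ideal.Quotient.mk_surjective).1 (hK.ge x.2)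
  choose l' hl'1 hl'2 using hlift I' hI'
  choose l'' hl''1 hl''2 using hlift I'' hI''
  have hz : ∀ x, ∃ z, mulJ J A z = l'' x - l' x := fun x =>
    exists_mulJ_eq J (Ideal.Quotient.eq.1 ((hl''2 x).trans (hl'2 x).symm))
  choose ζ hζ using hz
  have key : ∀ (x : I) (x' x'' : A), x' ∈ I' → x'' ∈ I'' → Ideal.Quotient.mk JA x' = x →
      Ideal.Quotient.mk JA x'' = x → ∀ z, mulJ J A z = x'' - x' → T z = T (ζ x) := by
    intro x x' x'' h' h'' e' e'' z hz
    obtain ⟨z', hz'⟩ := exists_mulJ_eq J (Ideal.Quotient.eq.1 (e'.trans (hl'2 x).symm))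
    have h1 : T z' = 0 := rTensor_eq_zero_of_mulJ_mem J I' π (hπ I' hI') z' (hz' ▸ sub_mem h' (hl'1 x))
    have h2 : T (z - ζ x + z') = 0 := by
      refine rTensor_eq_zero_of_mulJ_mem J I'' π (hπ I'' hI'') _ ?_
      rw [map_add, map_sub, hz, hζ, hz', show x'' - x' - (l'' x - l' x) + (x' - l' x) = x'' - l'' x by ring]
      exact sub_mem h'' (hl''1 x)
    rwa [map_add, map_sub, h1, add_zero, sub_eq_zero] at h2
  let φ : ↥I →ₗ[A] (((A ⧸ JA) ⧸ I) ⊗[C] ↥J) :=
    { toFun := fun x => T (ζ x)
      map_add' := fun x y => by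
        rw [← map_add]
        refine (key (x + y) (l' x + l' y) (l'' x + l'' y) (add_mem (hl'1 x) (hl'1 y)) (add_mem (hl''1 x) (hl''1 y))
          (by rw [map_add, hl'2, hl'2]; rfl) (by rw [map_add, hl''2, hl''2]; rfl) _ ?_).symm
        rw [map_add, hζ, hζ]
        ring
      map_smul' := fun a x => by
        have h1 : ∀ z : A ⊗[C] J, mulJ J A (a • z) = a * mulJ J A z := fun z => by
          induction z using TensorProduct.induction_on with
          | zero => simp
          | add x y hx hy => rw [smul_add, map_add, map_add, hx, hy, mul_add]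
          | tmul b j => simp [TensorProduct.smul_tmul']
        have h2 : ∀ z : A ⊗[C] J, T (a • z) = a • T z := fun z => by
          induction z using TensorProduct.induction_on with
          | zero => simp
          | add x y hx hy => rw [smul_add, map_add, map_add, hx, hy, smul_add]
          | tmul b j =>
            rw [TensorProduct.smul_tmul', LinearMap.rTensor_tmul, LinearMap.rTensor_tmul, TensorProduct.smul_tmul',
              smul_eq_mul]
            congr 1
        rw [RingHom.id_apply, ← h2]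
        refine (key (a • x) (a * l' x) (a * l'' x) (I'.mul_mem_left a (hl'1 x)) (I''.mul_mem_left a (hl''1 x))
          (by rw [map_mul, hl'2]; rfl) (by rw [map_mul, hl''2]; rfl) _ ?_).symm
        rw [h1, hζ, mul_sub] }
  refine ⟨φ, fun x hx x' x'' h' h'' e' e'' z hz => key ⟨x, hx⟩ x' x'' h' h'' e' e'' z hz, fun ψ hψ => LinearMap.ext fun x => ?_⟩
  exact (hψ x.1 x.2 (l' x) (l'' x) (hl'1 x) (hl''1 x) (hl'2 x) (hl''2 x) (ζ x) (hζ x)).symm

variable {M : Type u} [AddCommGroup M] [Module A M] [Module C M] [IsScalarTower C A M]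

/-- Endomorphisms congruent to the identity modulo a small ideal. -/
theorem automorphisms_iff_hom (m : Ideal C) (hmJ : m * J = ⊥) (hJm : J ≤ m) [Module.Flat C M] :
    (∀ σ : M →ₗ[A] M, (∀ x : M, σ x - x ∈ (J.map (algebraMap C A)) • (⊤ : Submodule A M)) →
      Function.Bijective σ ∧
        ∃! τ : (M ⧸ (m.map (algebraMap C A)) • (⊤ : Submodule A M)) →ₗ[A] ((M ⧸ (m.map (algebraMap C A)) • (⊤ : Submodule A M)) ⊗[C] ↥J),
          (∀ (x : M) (z : M ⊗[C] ↥J), TensorProduct.rid C M (LinearMap.lTensor M (Submodule.subtype J) z) = σ x - x →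
            LinearMap.rTensor ↥J ((Submodule.mkQ ((m.map (algebraMap C A)) • (⊤ : Submodule A M))).restrictScalars C) z =
              τ (Submodule.mkQ _ x))) ∧
    (∀ τ : (M ⧸ (m.map (algebraMap C A)) • (⊤ : Submodule A M)) →ₗ[A] ((M ⧸ (m.map (algebraMap C A)) • (⊤ : Submodule A M)) ⊗[C] ↥J),
      ∃ σ : M →ₗ[A] M, (∀ x : M, σ x - x ∈ (J.map (algebraMap C A)) • (⊤ : Submodule A M)) ∧
          (∀ (x : M) (z : M ⊗[C] ↥J), TensorProduct.rid C M (LinearMap.lTensor M (Submodule.subtype J) z) = σ x - x →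
            LinearMap.rTensor ↥J ((Submodule.mkQ ((m.map (algebraMap C A)) • (⊤ : Submodule A M))).restrictScalars C) z =
              τ (Submodule.mkQ _ x))) := by
  let N := (m.map (algebraMap C A)) • (⊤ : Submodule A M)
  let q : M →ₗ[C] M ⧸ N := (Submodule.mkQ N).restrictScalars C
  -- `A`-linear multiplication and reduction
  let μ : M ⊗[C] J →ₗ[A] M :=
    (TensorProduct.AlgebraTensorModule.rid C A M).toLinearMap ∘ₗ TensorProduct.AlgebraTensorModule.lTensor A M (Submodule.subtype J)
  have hμ : ∀ z, μ z = TensorProduct.rid C M (LinearMap.lTensor M (Submodule.subtype J) z) := fun z => by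
    induction z using TensorProduct.induction_on with
    | zero => simp
    | add x y hx hy => rw [map_add, map_add, map_add, hx, hy]
    | tmul b j => simp [μ]
  have hμinj : Function.Injective μ := fun a b h => by
    rw [hμ, hμ] at h
    exact Module.Flat.lTensor_preserves_injective_linearMap (Submodule.subtype J) J.injective_subtype
      ((TensorProduct.rid C M).injective h)
  have hμrange : ∀ y ∈ (J.map (algebraMap C A)) • (⊤ : Submodule A M), ∃ z, μ z = y := by
    intro y hy
    refine Submodule.smul_induction_on hy (fun a ha x _ => ?_) fun a b ha hb => ?_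
    · obtain ⟨z, rfl⟩ := exists_mulJ_eq J ha
      refine ⟨LinearMap.rTensor J ((LinearMap.toSpanSingleton A M x).restrictScalars C) z, ?_⟩
      clear ha
      induction z using TensorProduct.induction_on with
      | zero => simp
      | add a b ha hb => rw [map_add, map_add, map_add, ha, hb, add_smul]
      | tmul b j => simp [μ, smul_smul]
    · obtain ⟨z, rfl⟩ := ha
      obtain ⟨w, rfl⟩ := hb
      exact ⟨z + w, map_add _ _ _⟩
  have hμmem : ∀ z, μ z ∈ (J.map (algebraMap C A)) • (⊤ : Submodule A M) := fun z => by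
    induction z using TensorProduct.induction_on with
    | zero => simp
    | add a b ha hb => rw [map_add]; exact add_mem ha hb
    | tmul b j =>
      rw [hμ, LinearMap.lTensor_tmul, TensorProduct.rid_tmul, Submodule.subtype_apply, ← IsScalarTower.algebraMap_smul A (j : C) b]
      exact Submodule.smul_mem_smul (Ideal.mem_map_of_mem _ j.2) Submodule.mem_top
  have hkill : ∀ (c : C), c ∈ m → ∀ (j : J), c • j = 0 := fun c hc j =>
    Subtype.ext (Ideal.mem_bot.1 (hmJ ▸ Ideal.mul_mem_mul hc j.2))
  -- `M ⊗ J ≅ M₀ ⊗ J`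
  let qJ : M ⊗[C] J →ₗ[A] (M ⧸ N) ⊗[C] J := TensorProduct.AlgebraTensorModule.rTensor C J (Submodule.mkQ N)
  have hqJ : ∀ z, qJ z = LinearMap.rTensor J q z := fun z => rfl
  have hN : ∀ n ∈ N, ∀ j : J, n ⊗ₜ[C] j = (0 : M ⊗[C] J) := by
    intro n hn
    refine Submodule.smul_induction_on hn (fun a ha x _ => ?_) fun a b ha hb j => by
      rw [TensorProduct.add_tmul, ha j, hb j, add_zero]
    induction ha using Submodule.span_induction generalizing x with
    | mem a ha =>
      obtain ⟨c, hc, rfl⟩ := ha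
      intro j
      rw [IsScalarTower.algebraMap_smul, TensorProduct.smul_tmul, hkill c hc, TensorProduct.tmul_zero]
    | zero => intro j; rw [zero_smul, TensorProduct.zero_tmul]
    | add a b _ _ ha hb => intro j; rw [add_smul, TensorProduct.add_tmul, ha x trivial j, hb x trivial j, add_zero]
    | smul r a _ ha => intro j; rw [smul_eq_mul, mul_comm, mul_smul]; exact ha (r • x) trivial j
  let back : (M ⧸ N) ⊗[C] J →ₗ[C] M ⊗[C] J :=
    TensorProduct.lift ((Submodule.liftQ (N.restrictScalars C) (TensorProduct.mk C M J)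
      (fun n hn => LinearMap.ext fun j => hN n hn j)) ∘ₗ (Submodule.Quotient.restrictScalarsEquiv C N).symm.toLinearMap)
  have hback : ∀ z, back (qJ z) = z := fun z => by
    induction z using TensorProduct.induction_on with
    | zero => simp
    | add a b ha hb => rw [map_add, map_add, ha, hb]
    | tmul b j => rfl
  have hqsurj : Function.Surjective qJ := fun w => by
    induction w using TensorProduct.induction_on with
    | zero => exact ⟨0, map_zero _⟩
    | add a b ha hb =>
      obtain ⟨x, rfl⟩ := ha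
      obtain ⟨y, rfl⟩ := hb
      exact ⟨x + y, map_add _ _ _⟩
    | tmul b j =>
      obtain ⟨x, rfl⟩ := Submodule.mkQ_surjective _ b
      exact ⟨x ⊗ₜ j, rfl⟩
  let e := LinearEquiv.ofBijective qJ ⟨Function.LeftInverse.injective hback, hqsurj⟩
  have heq : ∀ w, qJ (e.symm w) = w := fun w => e.apply_symm_apply w
  constructor
  · intro σ hσ
    let δ : M →ₗ[A] M := σ - LinearMap.id
    have hδ : ∀ x, δ x ∈ (J.map (algebraMap C A)) • (⊤ : Submodule A M) := hσ
    have hδ0 : ∀ y ∈ (J.map (algebraMap C A)) • (⊤ : Submodule A M), δ y = 0 := by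
      intro y hy
      refine Submodule.smul_induction_on hy (fun a ha x _ => ?_) fun a b ha hb => by rw [map_add, ha, hb, add_zero]
      rw [map_smul]
      have hann : ∀ b ∈ J.map (algebraMap C A), a * b = 0 := fun b hb => by
        have h1 : a * b ∈ (J.map (algebraMap C A)) * (J.map (algebraMap C A)) := Ideal.mul_mem_mul ha hb
        rw [← Ideal.map_mul, eq_bot_iff.2 ((Ideal.mul_mono_left hJm).trans hmJ.le), Ideal.map_bot] at h1
        exact h1
      refine Submodule.smul_induction_on (hδ x) (fun b hb z _ => ?_) fun u v hu hv => by rw [smul_add, hu, hv, add_zero]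
      rw [smul_smul, hann b hb, zero_smul]
    have hσx : ∀ x, σ x = x + δ x := fun x => (add_sub_cancel x (σ x)).symm
    refine ⟨⟨(injective_iff_map_eq_zero σ).2 fun x hx => ?_, fun y => ⟨y - δ y, ?_⟩⟩, ?_⟩
    · have h1 := congrArg δ ((hσx x).symm.trans hx)
      rw [map_add, hδ0 _ (hδ x), add_zero, map_zero] at h1
      rw [← hx, hσx, h1, add_zero]
    · rw [hσx, map_sub, hδ0 _ (hδ y), sub_zero, sub_add_cancel]
    let ε : M →ₗ[A] M ⊗[C] J :=
      (LinearEquiv.ofInjective μ hμinj).symm.toLinearMap ∘ₗ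
        δ.codRestrict (LinearMap.range μ) (fun x => LinearMap.mem_range.2 (hμrange _ (hδ x)))
    have hε : ∀ x, μ (ε x) = δ x := fun x =>
      congrArg Subtype.val ((LinearEquiv.ofInjective μ hμinj).apply_symm_apply ⟨δ x, LinearMap.mem_range.2 (hμrange _ (hδ x))⟩)
    have hεN : N ≤ LinearMap.ker (qJ ∘ₗ ε) := by
      intro n hn
      refine Submodule.smul_induction_on hn (fun a ha x _ => ?_) fun a b ha hb => add_mem ha hb
      rw [LinearMap.mem_ker, LinearMap.comp_apply, map_smul, map_smul]
      have : ∀ w : (M ⧸ N) ⊗[C] J, a • w = 0 := fun w => by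
        induction w using TensorProduct.induction_on with
        | zero => rw [smul_zero]
        | add u v hu hv => rw [smul_add, hu, hv, add_zero]
        | tmul b j =>
          obtain ⟨b, rfl⟩ := Submodule.mkQ_surjective _ b
          rw [TensorProduct.smul_tmul', ← map_smul, Submodule.mkQ_apply,
            (Submodule.Quotient.mk_eq_zero N).2 (Submodule.smul_mem_smul ha Submodule.mem_top), TensorProduct.zero_tmul]
      exact this _
    refine ⟨Submodule.liftQ N (qJ ∘ₗ ε) hεN, fun x z hz => ?_, fun τ' hτ' => ?_⟩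
    · rw [← hqJ]
      change qJ z = qJ (ε x)
      rw [hμinj (((hμ z).trans hz).trans (hε x).symm)]
    · refine Submodule.linearMap_qext _ (LinearMap.ext fun x => ?_)
      change τ' (Submodule.mkQ N x) = qJ (ε x)
      rw [← hτ' x (ε x) ((hμ _).symm.trans (hε x))]
      exact (hqJ (ε x)).symm
  · intro τ
    let d : M →ₗ[A] M := μ ∘ₗ e.symm.toLinearMap ∘ₗ τ ∘ₗ Submodule.mkQ N
    refine ⟨LinearMap.id + d, fun x => ?_, fun x z hz => ?_⟩
    · rw [LinearMap.add_apply, LinearMap.id_apply, add_sub_cancel_left]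
      exact hμmem _
    · rw [LinearMap.add_apply, LinearMap.id_apply, add_sub_cancel_left, ← hμ] at hz
      rw [← hqJ, hμinj (show μ z = μ (e.symm (τ (Submodule.mkQ N x))) from hz), heq]

end GrothLib.EmbDef
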