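import Groth.Agent.Lib.EmbDef.Torsor
import Groth.Agent.Lib.Flatness.Criterion
import Mathlib.RingTheory.Ideal.Over

/-!
# Translating deformations of an ideal
-/

universe u

open scoped TensorProduct

namespace GrothLib.EmbDef

variable {C A : Type u} [CommRing C] [CommRing A] [Algebra C A] (J : Ideal C)
  (I : Ideal (A ⧸ J.map (algebraMap C A)))

/-- Maps killing a lift of `I` and `JA` descend to `(A ⧸ JA) ⧸ I`. -/
theorem exists_descend (K : Ideal A) (hK : K.map (Ideal.Quotient.mk (J.map (algebraMap C A))) = I)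
    {N : Type u} [AddCommGroup N] [Module C N] (h : A →ₗ[C] N) (h₁ : ∀ a ∈ K, h a = 0)
    (h₂ : ∀ a ∈ J.map (algebraMap C A), h a = 0) :
    ∃ b : ((A ⧸ J.map (algebraMap C A)) ⧸ I) →ₗ[C] N,
      ∀ a, b (algebraMap A ((A ⧸ J.map (algebraMap C A)) ⧸ I) a) = h a := by
  let π : A →ₗ[C] ((A ⧸ J.map (algebraMap C A)) ⧸ I) :=
    (IsScalarTower.toAlgHom C A ((A ⧸ J.map (algebraMap C A)) ⧸ I)).toLinearMap
  have hπ : Function.Surjective π := fun b => by
    obtain ⟨c, rfl⟩ := Ideal.Quotient.mk_surjective b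
    obtain ⟨a, rfl⟩ := Ideal.Quotient.mk_surjective c
    exact ⟨a, rfl⟩
  have hker : LinearMap.ker π ≤ LinearMap.ker h := fun a ha => by
    have h1 : Ideal.Quotient.mk (J.map (algebraMap C A)) a ∈ K.map (Ideal.Quotient.mk (J.map (algebraMap C A))) :=
      hK.ge (Ideal.Quotient.eq_zero_iff_mem.1 ha)
    obtain ⟨k, hk, e⟩ := (Ideal.mem_map_iff_of_surjective _ Ideal.Quotient.mk_surjective).1 h1
    have h3 := h₂ _ (Ideal.Quotient.eq.1 e)
    rw [map_sub, h₁ k hk, zero_sub, neg_eq_zero] at h3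
    exact h3
  refine ⟨(Submodule.liftQ _ h hker) ∘ₗ (π.quotKerEquivOfSurjective hπ).symm.toLinearMap, fun a => ?_⟩
  have : (π.quotKerEquivOfSurjective hπ).symm (π a) = Submodule.Quotient.mk a :=
    (LinearEquiv.symm_apply_eq _).2 rfl
  exact (congrArg (Submodule.liftQ _ h hker) this).trans rfl

theorem existsUnique_translate (hJ : J * J = ⊥)
    [Module.Flat (C ⧸ J) ((A ⧸ J.map (algebraMap C A)) ⧸ I)]
    (I' : Ideal A) [Module.Flat C (A ⧸ I')]
    (hI' : I'.map (Ideal.Quotient.mk (J.map (algebraMap C A))) = I)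
    (φ : ↥I →ₗ[A] (((A ⧸ J.map (algebraMap C A)) ⧸ I) ⊗[C] ↥J)) :
    ∃! I'' : Ideal A, Module.Flat C (A ⧸ I'') ∧
      I''.map (Ideal.Quotient.mk (J.map (algebraMap C A))) = I ∧
      (∀ (x : (A ⧸ J.map (algebraMap C A))) (hx : x ∈ I) (x' x'' : A), x' ∈ I' → x'' ∈ I'' →
          Ideal.Quotient.mk (J.map (algebraMap C A)) x' = x → Ideal.Quotient.mk (J.map (algebraMap C A)) x'' = x →
          ∀ z : A ⊗[C] ↥J, TensorProduct.rid C A (LinearMap.lTensor A (Submodule.subtype J) z) = x'' - x' →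
            LinearMap.rTensor ↥J (IsScalarTower.toAlgHom C A ((A ⧸ J.map (algebraMap C A)) ⧸ I)).toLinearMap z = φ ⟨x, hx⟩) := by
  let JA := J.map (algebraMap C A)
  let B := (A ⧸ JA) ⧸ I
  let π : A →ₗ[C] B := (IsScalarTower.toAlgHom C A B).toLinearMap
  let T := LinearMap.rTensor J π
  have hmem : ∀ x ∈ I', Ideal.Quotient.mk JA x ∈ I := fun x hx => hI'.le (Ideal.mem_map_of_mem _ hx)
  have hπ' : ∀ a ∈ I', π a = 0 := fun a ha => Ideal.Quotient.eq_zero_iff_mem.2 (hmem a ha)
  have hT' : ∀ z, mulJ J A z ∈ I' → T z = 0 := fun z hz => rTensor_eq_zero_of_mulJ_mem J I' π hπ' z hz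
  have hπs : Function.Surjective π := fun b => by
    obtain ⟨c, rfl⟩ := Ideal.Quotient.mk_surjective b
    obtain ⟨a, rfl⟩ := Ideal.Quotient.mk_surjective c
    exact ⟨a, rfl⟩
  have hmulmem : ∀ z, mulJ J A z ∈ JA := fun z => by
    induction z using TensorProduct.induction_on with
    | zero => simp
    | add a b ha hb => rw [map_add]; exact add_mem ha hb
    | tmul b j =>
      rw [LinearMap.comp_apply, LinearMap.lTensor_tmul, LinearEquiv.coe_coe, TensorProduct.rid_tmul, Algebra.smul_def]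
      exact JA.mul_mem_right b (Ideal.mem_map_of_mem _ j.2)
  have hmul : ∀ (a : A) (z : A ⊗[C] J), mulJ J A (a • z) = a * mulJ J A z := fun a z => by
    induction z using TensorProduct.induction_on with
    | zero => simp
    | add x y hx hy => rw [smul_add, map_add, map_add, hx, hy, mul_add]
    | tmul b j => simp [TensorProduct.smul_tmul']
  have hTsmul : ∀ (a : A) (z : A ⊗[C] J), T (a • z) = a • T z := fun a z => by
    induction z using TensorProduct.induction_on with
    | zero => simp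
    | add x y hx hy => rw [smul_add, map_add, map_add, hx, hy, smul_add]
    | tmul b j =>
      rw [TensorProduct.smul_tmul', LinearMap.rTensor_tmul, LinearMap.rTensor_tmul, TensorProduct.smul_tmul',
        smul_eq_mul]
      congr 1
  let P : A → Prop := fun a => ∃ (x : A) (hx : x ∈ I') (z : A ⊗[C] J),
    mulJ J A z = a - x ∧ T z = φ ⟨Ideal.Quotient.mk JA x, hmem x hx⟩
  let K : Ideal A :=
    { carrier := {a | P a}
      zero_mem' := ⟨0, zero_mem _, 0, by simp, by
        rw [map_zero, ← map_zero φ]; exact congrArg φ (Subtype.ext (map_zero _).symm)⟩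
      add_mem' := by
        rintro a b ⟨x, hx, z, hz, hzT⟩ ⟨y, hy, w, hw, hwT⟩
        refine ⟨x + y, add_mem hx hy, z + w, by rw [map_add, hz, hw]; ring, ?_⟩
        rw [map_add, hzT, hwT, ← map_add]
        exact congrArg φ (Subtype.ext (map_add _ _ _).symm)
      smul_mem' := by
        rintro a b ⟨x, hx, z, hz, hzT⟩
        refine ⟨a * x, I'.mul_mem_left a hx, a • z, by rw [hmul, hz, mul_sub, smul_eq_mul], ?_⟩
        rw [hTsmul, hzT, ← map_smul]
        exact congrArg φ (Subtype.ext rfl) }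
  have hKmap : K.map (Ideal.Quotient.mk JA) = I := by
    refine le_antisymm (Ideal.map_le_iff_le_comap.2 ?_) fun x hx => ?_
    · rintro a ⟨x, hx, z, hz, -⟩
      rw [Ideal.mem_comap, show Ideal.Quotient.mk JA a = Ideal.Quotient.mk JA x from Ideal.Quotient.eq.2 (hz ▸ hmulmem z)]
      exact hmem x hx
    · obtain ⟨x', hx', rfl⟩ := (Ideal.mem_map_iff_of_surjective _ Ideal.Quotient.mk_surjective).1 (hI'.ge hx)
      obtain ⟨z, hz⟩ := LinearMap.rTensor_surjective J hπs (φ ⟨Ideal.Quotient.mk JA x', hx⟩)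
      have hin : x' + mulJ J A z ∈ K := ⟨x', hx', z, (add_sub_cancel_left _ _).symm, hz⟩
      have := Ideal.mem_map_of_mem (Ideal.Quotient.mk JA) hin
      rwa [map_add, show Ideal.Quotient.mk JA (mulJ J A z) = 0 from Ideal.Quotient.eq_zero_iff_mem.2 (hmulmem z),
        add_zero] at this
  have hdiff : ∀ (x : A ⧸ JA) (hx : x ∈ I) (x' x'' : A), x' ∈ I' → x'' ∈ K → Ideal.Quotient.mk JA x' = x →
      Ideal.Quotient.mk JA x'' = x → ∀ z, mulJ J A z = x'' - x' → T z = φ ⟨x, hx⟩ := by
    rintro x hx x' x'' h' ⟨x₀, h₀, z₀, hz₀, hz₀T⟩ e' e'' z hz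
    have e₀ : Ideal.Quotient.mk JA x₀ = x := by
      rw [← e'', eq_comm, Ideal.Quotient.eq, ← hz₀]
      exact hmulmem z₀
    have h1 : T (z - z₀) = 0 := hT' _ (by
      rw [map_sub, hz, hz₀, sub_sub_sub_cancel_left]
      exact sub_mem h₀ h')
    rw [map_sub, sub_eq_zero] at h1
    rw [h1, hz₀T]
    exact congrArg φ (Subtype.ext e₀)
  -- comparison of `(A ⧸ L) ⊗ J` with `B ⊗ J`
  have hback : ∀ L : Ideal A, L.map (Ideal.Quotient.mk JA) = I → ∀ z : A ⊗[C] J, T z = 0 →
      LinearMap.rTensor J (L.mkQ.restrictScalars C) z = 0 := by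
    intro L hL z hz
    let h : A →ₗ[C] (J →ₗ[C] (A ⧸ L) ⊗[C] J) := (TensorProduct.mk C (A ⧸ L) J) ∘ₗ L.mkQ.restrictScalars C
    obtain ⟨b, hb⟩ := exists_descend (N := (J →ₗ[C] (A ⧸ L) ⊗[C] J)) J I L hL h (fun a ha => by
      refine LinearMap.ext fun j => ?_
      change (Submodule.Quotient.mk a : A ⧸ L) ⊗ₜ[C] j = 0
      rw [(Submodule.Quotient.mk_eq_zero L).2 ha, TensorProduct.zero_tmul]) (fun a ha => by
      obtain ⟨w, rfl⟩ := exists_mulJ_eq J ha
      refine LinearMap.ext fun j => ?_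
      clear ha
      induction w using TensorProduct.induction_on with
      | zero => simp
      | add u v hu hv => rw [map_add, map_add, LinearMap.add_apply, hu, hv]; rfl
      | tmul c i =>
        change (Submodule.Quotient.mk (mulJ J A (c ⊗ₜ i)) : A ⧸ L) ⊗ₜ[C] j = 0
        rw [LinearMap.comp_apply, LinearMap.lTensor_tmul, LinearEquiv.coe_coe, TensorProduct.rid_tmul,
          Submodule.Quotient.mk_smul, TensorProduct.smul_tmul,
          show J.subtype i • j = 0 from Subtype.ext (Ideal.mem_bot.1 (hJ ▸ Ideal.mul_mem_mul i.2 j.2)),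
          TensorProduct.tmul_zero])
    have hcomp : ∀ w : A ⊗[C] J, TensorProduct.lift b (T w) = LinearMap.rTensor J (L.mkQ.restrictScalars C) w := fun w => by
      induction w using TensorProduct.induction_on with
      | zero => simp
      | add u v hu hv => rw [map_add, map_add, map_add, hu, hv]
      | tmul c i =>
        rw [LinearMap.rTensor_tmul, TensorProduct.lift.tmul]
        exact LinearMap.congr_fun (hb c) i
    rw [← hcomp, hz, map_zero]
  have hq : ∀ (L : Ideal A) z, mulJ J (A ⧸ L) (LinearMap.rTensor J (L.mkQ.restrictScalars C) z) =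
      L.mkQ (mulJ J A z) := fun L z => by
    induction z using TensorProduct.induction_on with
    | zero => simp
    | add x y hx hy => rw [map_add, map_add, map_add, map_add, hx, hy]
    | tmul b j => simp
  haveI hflat : Module.Flat C (A ⧸ K) := by
    refine GrothLib.Flatness.flat_of_isNilpotent J ⟨2, by rw [pow_two, hJ]; rfl⟩ ?_ ?_
    · refine (injective_iff_map_eq_zero _).2 fun w hw => ?_
      obtain ⟨z, rfl⟩ := LinearMap.rTensor_surjective J (g := K.mkQ.restrictScalars C) K.mkQ_surjective w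
      have h1 : mulJ J A z ∈ K := by
        rw [← Submodule.Quotient.mk_eq_zero K]
        exact (hq K z).symm.trans (by rw [LinearMap.comp_apply, hw, map_zero])
      obtain ⟨x, hx, z₀, hz₀, hz₀T⟩ := h1
      have hx0 : Ideal.Quotient.mk JA x = 0 := Ideal.Quotient.eq_zero_iff_mem.2 (by
        have := sub_mem (hmulmem z) (hz₀ ▸ hmulmem z₀)
        rwa [sub_sub_cancel] at this)
      rw [show (⟨Ideal.Quotient.mk JA x, hmem x hx⟩ : I) = 0 from Subtype.ext hx0, map_zero] at hz₀T
      refine hback K hKmap z ?_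
      have h2 := hT' (z - z₀) (by rw [map_sub, hz₀, sub_sub_cancel]; exact hx)
      rwa [map_sub, hz₀T, sub_zero] at h2
    · let g : (A ⧸ K) →ₗ[C] B := (Submodule.liftQ (K.restrictScalars C) π fun a ha =>
        Ideal.Quotient.eq_zero_iff_mem.2 (hKmap.le (Ideal.mem_map_of_mem _ ha))) ∘ₗ
          (Submodule.Quotient.restrictScalarsEquiv C K).symm.toLinearMap
      let f : (C ⧸ J) ⊗[C] (A ⧸ K) →ₗ[C ⧸ J] B := g.liftBaseChange (C ⧸ J)
      obtain ⟨b, hb⟩ := exists_descend J I K hKmap
        ((TensorProduct.mk C (C ⧸ J) (A ⧸ K) 1) ∘ₗ K.mkQ.restrictScalars C) (fun a ha => by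
          change (1 : C ⧸ J) ⊗ₜ[C] (Submodule.Quotient.mk a : A ⧸ K) = 0
          rw [(Submodule.Quotient.mk_eq_zero K).2 ha, TensorProduct.tmul_zero]) (fun a ha => by
          obtain ⟨w, rfl⟩ := exists_mulJ_eq J ha
          clear ha
          induction w using TensorProduct.induction_on with
          | zero => simp
          | add u v hu hv => rw [map_add, map_add, hu, hv, add_zero]
          | tmul c i =>
            change (1 : C ⧸ J) ⊗ₜ[C] (Submodule.Quotient.mk (mulJ J A (c ⊗ₜ i)) : A ⧸ K) = 0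
            rw [LinearMap.comp_apply, LinearMap.lTensor_tmul, LinearEquiv.coe_coe, TensorProduct.rid_tmul,
              Submodule.Quotient.mk_smul, ← TensorProduct.smul_tmul, Algebra.smul_def, mul_one,
              show algebraMap C (C ⧸ J) (J.subtype i) = 0 from Ideal.Quotient.eq_zero_iff_mem.2 i.2, TensorProduct.zero_tmul])
      have hleft : ∀ w, b (f w) = w := fun w => by
        induction w using TensorProduct.induction_on with
        | zero => simp
        | add u v hu hv => rw [map_add, map_add, hu, hv]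
        | tmul c m =>
          obtain ⟨c, rfl⟩ := Ideal.Quotient.mk_surjective c
          obtain ⟨m, rfl⟩ := Submodule.mkQ_surjective _ m
          rw [show f (Ideal.Quotient.mk J c ⊗ₜ K.mkQ m) = c • algebraMap A B m from ?_, map_smul, hb]
          · change c • ((1 : C ⧸ J) ⊗ₜ[C] K.mkQ m) = _
            rw [TensorProduct.smul_tmul', Algebra.smul_def, mul_one]
            rfl
          · rw [LinearMap.liftBaseChange_tmul]
            rfl
      have hsurj : Function.Surjective f := fun y => by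
        obtain ⟨a, rfl⟩ := hπs y
        exact ⟨1 ⊗ₜ K.mkQ a, by rw [LinearMap.liftBaseChange_tmul, one_smul]; rfl⟩
      exact Module.Flat.of_linearEquiv (LinearEquiv.ofBijective f ⟨Function.LeftInverse.injective hleft, hsurj⟩)
  refine ⟨K, ⟨hflat, hKmap, hdiff⟩, ?_⟩
  rintro L ⟨hLflat, hLmap, hL⟩
  refine le_antisymm (fun a ha => ?_) fun a ha => ?_
  · have haI : Ideal.Quotient.mk JA a ∈ I := hLmap.le (Ideal.mem_map_of_mem _ ha)
    obtain ⟨x, hx, e⟩ := (Ideal.mem_map_iff_of_surjective _ Ideal.Quotient.mk_surjective).1 (hI'.ge haI)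
    obtain ⟨z, hz⟩ := exists_mulJ_eq J (Ideal.Quotient.eq.1 e.symm)
    exact ⟨x, hx, z, hz, (hL _ haI x a hx ha e rfl z hz).trans (congrArg φ (Subtype.ext e.symm))⟩
  · obtain ⟨x, hx, z, hz, hzT⟩ := ha
    have exa : Ideal.Quotient.mk JA a = Ideal.Quotient.mk JA x := Ideal.Quotient.eq.2 (hz ▸ hmulmem z)
    obtain ⟨k, hk, ek⟩ := (Ideal.mem_map_iff_of_surjective _ Ideal.Quotient.mk_surjective).1 (hLmap.ge (hmem x hx))
    obtain ⟨w, hw⟩ := exists_mulJ_eq J (Ideal.Quotient.eq.1 ek)
    have h1 : T w = T z := (hL _ (hmem x hx) x k hx hk rfl ek w hw).trans hzT.symm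
    have h2 : T (z - w) = 0 := by rw [map_sub, h1, sub_self]
    have h3 := hq L (z - w)
    rw [hback L hLmap _ h2, map_zero, eq_comm, Submodule.mkQ_apply, Submodule.Quotient.mk_eq_zero, map_sub, hz, hw,
      sub_sub_sub_cancel_right] at h3
    simpa using add_mem h3 hk

end GrothLib.EmbDef
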